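/-
Coverings by the conjugates of two proper subgroups; roots of irreducible polynomials in `F[M]`.
-/
import Mathlib

set_option autoImplicit false

open Polynomial

namespace Cfsg.Agent.H62.Covering

/-- `G` is the union of the conjugates of two proper subgroups. -/
def TwoCover (G : Type*) [Group G] : Prop :=
  ∃ H K : Subgroup G, H ≠ ⊤ ∧ K ≠ ⊤ ∧ ∀ g : G, ∃ x : G, x * g * x⁻¹ ∈ H ∨ x * g * x⁻¹ ∈ K

/-- A two-class covering passes to the quotient by a normal subgroup inside both members. -/
theorem twoCover_quotient {G : Type*} [Group G] (N : Subgroup G) [N.Normal] {H K : Subgroup G}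
    (hH : H ≠ ⊤) (hK : K ≠ ⊤) (hNH : N ≤ H) (hNK : N ≤ K)
    (h : ∀ g : G, ∃ x : G, x * g * x⁻¹ ∈ H ∨ x * g * x⁻¹ ∈ K) : TwoCover (G ⧸ N) := by
  have key : ∀ L : Subgroup G, L ≠ ⊤ → N ≤ L → L.map (QuotientGroup.mk' N) ≠ ⊤ := by
    intro L hL hNL he
    refine hL ?_
    have h1 := congrArg (Subgroup.comap (QuotientGroup.mk' N)) he
    rwa [Subgroup.comap_map_eq_self (by rwa [QuotientGroup.ker_mk']), Subgroup.comap_top] at h1
  refine ⟨H.map (QuotientGroup.mk' N), K.map (QuotientGroup.mk' N), key H hH hNH, key K hK hNK,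
    fun g => ?_⟩
  obtain ⟨g, rfl⟩ := QuotientGroup.mk'_surjective N g
  obtain ⟨x, hx⟩ := h g
  refine ⟨QuotientGroup.mk' N x, ?_⟩
  rw [← map_inv, ← map_mul, ← map_mul]
  exact hx.imp (Subgroup.mem_map_of_mem _) (Subgroup.mem_map_of_mem _)

variable {F : Type*} [Field F] [Finite F]

/-- There are monic irreducible polynomials of every positive degree. -/
theorem exists_irreducible_deg {n : ℕ} (hn : n ≠ 0) :
    ∃ f : F[X], f.Monic ∧ Irreducible f ∧ f.natDegree = n := by
  obtain ⟨p, hp⟩ := CharP.exists F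
  have : Fact p.Prime := ⟨CharP.char_is_prime F p⟩
  have : NeZero n := ⟨hn⟩
  obtain ⟨θ, hθ⟩ := Field.exists_primitive_element F (FiniteField.Extension F p n)
  have hint : IsIntegral F θ := IsIntegral.of_finite F θ
  refine ⟨minpoly F θ, minpoly.monic hint, minpoly.irreducible hint, ?_⟩
  rw [← IntermediateField.adjoin.finrank hint, hθ, IntermediateField.finrank_top',
    FiniteField.finrank_extension]

/-- An irreducible polynomial has a root modulo every irreducible polynomial of suitable degree. -/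
theorem exists_root_mod_irreducible {f p : F[X]} (hf : Irreducible f) (hp : Irreducible p)
    (hd : f.natDegree ∣ p.natDegree) : ∃ P : F[X], p ∣ f.comp P := by
  have : Fact (Irreducible f) := ⟨hf⟩
  have : Fact (Irreducible p) := ⟨hp⟩
  have : Module.Finite F (AdjoinRoot p) := (AdjoinRoot.powerBasis hp.ne_zero).finite
  have : Finite (AdjoinRoot p) := Module.finite_of_finite F
  have h1 : Module.finrank F (AdjoinRoot f) ∣ Module.finrank F (AdjoinRoot p) := by
    rwa [(AdjoinRoot.powerBasis hf.ne_zero).finrank, (AdjoinRoot.powerBasis hp.ne_zero).finrank,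
      AdjoinRoot.powerBasis_dim, AdjoinRoot.powerBasis_dim]
  obtain ⟨φ⟩ := FiniteField.nonempty_algHom_of_finrank_dvd h1
  obtain ⟨P, hP⟩ := AdjoinRoot.mk_surjective (φ (AdjoinRoot.root f))
  refine ⟨P, AdjoinRoot.mk_eq_zero.1 ?_⟩
  rw [← AdjoinRoot.aeval_eq, aeval_comp, AdjoinRoot.aeval_eq, hP, aeval_algHom_apply,
    AdjoinRoot.aeval_eq, AdjoinRoot.mk_self, map_zero]

open Classical in
/-- An irreducible polynomial has a simultaneous root modulo finitely many irreducibles. -/
theorem exists_root_mod_finset {f : F[X]} (hf : Irreducible f) (s : Finset F[X])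
    (hs : ∀ p ∈ s, p.Monic ∧ Irreducible p ∧ f.natDegree ∣ p.natDegree) :
    ∃ P : F[X], ∀ p ∈ s, p ∣ f.comp P := by
  have hcong : ∀ a b p : F[X], p ∣ a - b → (p ∣ f.comp a ↔ p ∣ f.comp b) := fun a b p h => by
    refine dvd_iff_dvd_of_dvd_sub (h.trans ?_)
    simpa only [eval_map, ← comp.eq_1] using sub_dvd_eval_sub a b (f.map C)
  induction s using Finset.induction with
  | empty => exact ⟨0, fun p hp => absurd hp (Finset.notMem_empty p)⟩
  | insert a s ha ih =>
    obtain ⟨P, hP⟩ := ih fun p hp => hs p (Finset.mem_insert_of_mem hp)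
    obtain ⟨ham, hai, had⟩ := hs a (Finset.mem_insert_self a s)
    obtain ⟨Pa, hPa⟩ := exists_root_mod_irreducible hf hai had
    have hcop : IsCoprime (∏ p ∈ s, p) a := IsCoprime.prod_left fun p hp => by
      obtain ⟨hpm, hpi, -⟩ := hs p (Finset.mem_insert_of_mem hp)
      exact hpi.coprime_iff_not_dvd.2 fun hdvd => ha (eq_of_monic_of_associated hpm ham
        (hpi.associated_of_dvd hai hdvd) ▸ hp)
    obtain ⟨u, v, huv⟩ := hcop
    refine ⟨P + u * (∏ p ∈ s, p) * (Pa - P), fun p hp => ?_⟩
    rcases Finset.mem_insert.1 hp with rfl | hp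
    · refine (hcong _ Pa p ⟨-(v * (Pa - P)), ?_⟩).2 hPa
      linear_combination (Pa - P) * huv
    · refine (hcong _ P p ?_).2 (hP p hp)
      rw [add_sub_cancel_left]
      exact ((Finset.dvd_prod_of_mem id hp).mul_left u).mul_right _

/-- If every irreducible factor of `χ` has degree divisible by `deg f`, then `f` has a root modulo `χ`. -/
theorem exists_root_mod {χ f : F[X]} (hχ : χ.Monic) (hf : Irreducible f)
    (h : ∀ p : F[X], p.Monic → Irreducible p → p ∣ χ → f.natDegree ∣ p.natDegree) :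
    ∃ P : F[X], χ ∣ f.comp P := by
  classical
  set S := UniqueFactorizationMonoid.normalizedFactors χ with hS
  have hSp : ∀ p ∈ S, p.Monic ∧ Irreducible p ∧ f.natDegree ∣ p.natDegree := fun p hp => by
    have hi := UniqueFactorizationMonoid.irreducible_of_normalized_factor p hp
    have hm : p.Monic := by
      rw [← UniqueFactorizationMonoid.normalize_normalized_factor p hp]
      exact monic_normalize hi.ne_zero
    exact ⟨hm, hi, h p hm hi (UniqueFactorizationMonoid.dvd_of_mem_normalizedFactors hp)⟩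
  obtain ⟨P, hP⟩ := exists_root_mod_finset hf S.toFinset fun p hp => hSp p (Multiset.mem_toFinset.1 hp)
  have hnil : IsNilpotent (aeval (AdjoinRoot.mk χ P) f) := by
    refine ⟨Multiset.card S, ?_⟩
    have hPv : aeval (AdjoinRoot.mk χ P) f = AdjoinRoot.mk χ (f.comp P) := by
      rw [← AdjoinRoot.aeval_eq, ← AdjoinRoot.aeval_eq, aeval_comp]
    rw [hPv, ← map_pow, AdjoinRoot.mk_eq_zero]
    refine (UniqueFactorizationMonoid.prod_normalizedFactors hχ.ne_zero).symm.dvd.trans ?_
    rw [← hS, ← Multiset.prod_replicate, ← Multiset.map_const']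
    have h2 := Multiset.prod_dvd_prod_of_dvd (id : F[X] → F[X]) (fun _ => f.comp P) (S := S)
      fun p hp => hP p (Multiset.mem_toFinset.2 hp)
    rwa [Multiset.map_id] at h2
  have hunit : IsUnit (aeval (AdjoinRoot.mk χ P) (derivative f)) := by
    obtain ⟨a, b, hab⟩ := PerfectField.separable_of_irreducible hf
    have h1 := congrArg (aeval (AdjoinRoot.mk χ P)) hab
    rw [map_add, map_mul, map_mul, map_one] at h1
    have h2 : IsUnit (1 - aeval (AdjoinRoot.mk χ P) a * aeval (AdjoinRoot.mk χ P) f) :=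
      ((Commute.all _ _).isNilpotent_mul_left hnil).isUnit_one_sub
    rw [sub_eq_of_eq_add' h1.symm] at h2
    exact isUnit_of_mul_isUnit_right h2
  obtain ⟨r, ⟨-, hr⟩, -⟩ := existsUnique_nilpotent_sub_and_aeval_eq_zero hnil hunit
  obtain ⟨Q, rfl⟩ := AdjoinRoot.mk_surjective r
  exact ⟨Q, AdjoinRoot.mk_eq_zero.1 (by rwa [← AdjoinRoot.aeval_eq, aeval_comp, AdjoinRoot.aeval_eq])⟩

/-- A root of an irreducible polynomial inside `F[M]`. -/
theorem exists_aeval_root {n : Type*} [Fintype n] [DecidableEq n] (M : Matrix n n F) {f : F[X]}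
    (hf : Irreducible f)
    (h : ∀ p : F[X], p.Monic → Irreducible p → p ∣ M.charpoly → f.natDegree ∣ p.natDegree) :
    ∃ P : F[X], aeval (aeval M P) f = 0 := by
  obtain ⟨P, R, hR⟩ := exists_root_mod M.charpoly_monic hf h
  exact ⟨P, by rw [← aeval_comp, hR, map_mul, Matrix.aeval_self_charpoly, zero_mul]⟩

end Cfsg.Agent.H62.Covering
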