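/-
`G₂(q)`, `q` even, is covered by the stabilisers of the two kinds of trace-one pairs `{e, e + 1}`.
-/
import Cfsg.Agent.H62.Covering.Basic
import Cfsg.Prelude.Def_G2

set_option autoImplicit false

open Matrix Cfsg.Lie

namespace Cfsg.Agent.H62.Covering.G2

variable {F : Type*} [Field F]

local notation "O" => (Fin 8 → F)

/-- The unit octonion. -/
def one : O := ![1, 0, 0, 0, 0, 0, 0, 1]

/-- The norm. -/
def nrm (x : O) : F := x 0 * x 7 - (x 1 * x 4 + x 2 * x 5 + x 3 * x 6)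

/-- The polar of the norm. -/
def pol (x y : O) : F :=
  x 0 * y 7 + x 7 * y 0 - (x 1 * y 4 + x 2 * y 5 + x 3 * y 6 + x 4 * y 1 + x 5 * y 2 + x 6 * y 3)

theorem nrm_add (x y : O) : nrm (x + y) = nrm x + nrm y + pol x y := by
  simp only [nrm, pol, Pi.add_apply]; ring

theorem pol_one (x : O) : pol x one = x 0 + x 7 := by simp [pol, one]

theorem nrm_add_one (x : O) (c : F) : nrm (x + c • one) = nrm x + c * (x 0 + x 7) + c * c := by
  simp [nrm, one]; ring

theorem zorn_one_left (x : O) : zornMul one x = x := by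
  funext i; fin_cases i <;> simp [zornMul, one, dot3, cross3]

theorem zorn_one_right (x : O) : zornMul x one = x := by
  funext i; fin_cases i <;> simp [zornMul, one, dot3, cross3]

theorem zorn_self (x : O) : zornMul x x = (x 0 + x 7) • x - nrm x • one := by
  funext i; fin_cases i <;> simp [zornMul, one, nrm, dot3, cross3] <;> ring

/-- The matrix of an element. -/
abbrev mat (g : ↥(Lie.G2 F)) : Matrix (Fin 8) (Fin 8) F := ((g : GL (Fin 8) F) : Matrix (Fin 8) (Fin 8) F)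

theorem map_mul' (g : ↥(Lie.G2 F)) (x y : O) :
    mat g *ᵥ zornMul x y = zornMul (mat g *ᵥ x) (mat g *ᵥ y) := g.2 x y

theorem mat_mul (g h : ↥(Lie.G2 F)) : mat (g * h) = mat g * mat h := rfl

theorem mat_inv_mulVec (g : ↥(Lie.G2 F)) (x : O) : mat g⁻¹ *ᵥ (mat g *ᵥ x) = x := by
  rw [mulVec_mulVec, ← mat_mul, inv_mul_cancel]; exact one_mulVec x

theorem mat_mulVec_inv (g : ↥(Lie.G2 F)) (x : O) : mat g *ᵥ (mat g⁻¹ *ᵥ x) = x := by
  rw [mulVec_mulVec, ← mat_mul, mul_inv_cancel]; exact one_mulVec x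

theorem map_one' (g : ↥(Lie.G2 F)) : mat g *ᵥ one = one := by
  have h := map_mul' g one (mat g⁻¹ *ᵥ one)
  rw [zorn_one_left, mat_mulVec_inv, zorn_one_right] at h
  exact h.symm

theorem map_nrm (g : ↥(Lie.G2 F)) (x : O) : nrm (mat g *ᵥ x) = nrm x := by
  set y := mat g *ᵥ x with hy
  have h : (x 0 + x 7) • y - nrm x • one = (y 0 + y 7) • y - nrm y • one := by
    have h1 := map_mul' g x x
    rw [← hy, zorn_self, zorn_self, mulVec_sub, mulVec_smul, mulVec_smul, map_one', ← hy] at h1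
    exact h1
  by_cases hc : (x 0 + x 7) = y 0 + y 7
  · rw [hc] at h
    have h0 := congrFun (sub_right_inj.1 h) 0
    simpa [one] using h0.symm
  · have hyc : y = ((nrm x - nrm y) / ((x 0 + x 7) - (y 0 + y 7))) • one := by
      rw [div_eq_inv_mul, mul_smul, eq_inv_smul_iff₀ (sub_ne_zero.2 hc), sub_smul, sub_smul]
      rw [sub_eq_sub_iff_sub_eq_sub] at h
      exact h
    have hx : x = ((nrm x - nrm y) / ((x 0 + x 7) - (y 0 + y 7))) • one := by
      have := congrArg (mat g⁻¹ *ᵥ ·) hyc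
      simp only [hy, mat_inv_mulVec, mulVec_smul, map_one'] at this
      exact this
    rw [hyc, ← hx]

/-- An automorphism from a linear map with a left inverse. -/
def mk (f f' : O →ₗ[F] O) (h : ∀ x, f (f' x) = x)
    (hm : ∀ x y, f (zornMul x y) = zornMul (f x) (f y)) : ↥(Lie.G2 F) :=
  ⟨⟨LinearMap.toMatrix' f, LinearMap.toMatrix' f',
      by rw [← LinearMap.toMatrix'_comp, show f ∘ₗ f' = LinearMap.id from LinearMap.ext h, LinearMap.toMatrix'_id],
      mul_eq_one_comm.1 (by rw [← LinearMap.toMatrix'_comp, show f ∘ₗ f' = LinearMap.id from LinearMap.ext h,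
        LinearMap.toMatrix'_id])⟩, fun x y => by
    show LinearMap.toMatrix' f *ᵥ zornMul x y = zornMul (LinearMap.toMatrix' f *ᵥ x) (LinearMap.toMatrix' f *ᵥ y)
    simp only [LinearMap.toMatrix'_mulVec]
    exact hm x y⟩

theorem mk_mulVec (f f' : O →ₗ[F] O) (h : ∀ x, f (f' x) = x)
    (hm : ∀ x y, f (zornMul x y) = zornMul (f x) (f y)) (x : O) : mat (mk f f' h hm) *ᵥ x = f x :=
  LinearMap.toMatrix'_mulVec ..

/-- The shear `φ_a`. -/
def phiMap (a₁ a₂ a₃ : F) : O →ₗ[F] O where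
  toFun x :=
    ![x 0 - (a₁ * x 4 + a₂ * x 5 + a₃ * x 6),
      x 1 + (x 0 - x 7 - (a₁ * x 4 + a₂ * x 5 + a₃ * x 6)) * a₁,
      x 2 + (x 0 - x 7 - (a₁ * x 4 + a₂ * x 5 + a₃ * x 6)) * a₂,
      x 3 + (x 0 - x 7 - (a₁ * x 4 + a₂ * x 5 + a₃ * x 6)) * a₃,
      x 4 + (a₂ * x 3 - a₃ * x 2), x 5 + (a₃ * x 1 - a₁ * x 3), x 6 + (a₁ * x 2 - a₂ * x 1),
      x 7 + (a₁ * x 4 + a₂ * x 5 + a₃ * x 6)]
  map_add' x y := by funext i; fin_cases i <;> simp <;> ring
  map_smul' c x := by funext i; fin_cases i <;> simp <;> ring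

/-- The shear as an automorphism. -/
def phi (a₁ a₂ a₃ : F) : ↥(Lie.G2 F) :=
  mk (phiMap a₁ a₂ a₃) (phiMap (-a₁) (-a₂) (-a₃))
    (fun x => by funext i; fin_cases i <;> simp [phiMap] <;> ring)
    (fun x y => by funext i; fin_cases i <;> simp [phiMap, zornMul, dot3, cross3] <;> ring)

/-- The transpose. -/
def swapMap : O →ₗ[F] O where
  toFun x := ![x 7, -x 4, -x 5, -x 6, -x 1, -x 2, -x 3, x 0]
  map_add' x y := by funext i; fin_cases i <;> simp <;> ring
  map_smul' c x := by funext i; fin_cases i <;> simp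

/-- The transpose as an automorphism. -/
def swap : ↥(Lie.G2 F) :=
  mk swapMap swapMap (fun x => by funext i; fin_cases i <;> simp [swapMap])
    (fun x y => by funext i; fin_cases i <;> simp [swapMap, zornMul, dot3, cross3] <;> ring)

/-- A transvection of `SL₃` acting on octonions, with axis given by `k = u × z`. -/
def transMap (u₁ u₂ u₃ z₁ z₂ z₃ : F) : O →ₗ[F] O where
  toFun x :=
    ![x 0,
      x 1 + ((u₂ * z₃ - u₃ * z₂) * x 1 + (u₃ * z₁ - u₁ * z₃) * x 2 + (u₁ * z₂ - u₂ * z₁) * x 3) * u₁,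
      x 2 + ((u₂ * z₃ - u₃ * z₂) * x 1 + (u₃ * z₁ - u₁ * z₃) * x 2 + (u₁ * z₂ - u₂ * z₁) * x 3) * u₂,
      x 3 + ((u₂ * z₃ - u₃ * z₂) * x 1 + (u₃ * z₁ - u₁ * z₃) * x 2 + (u₁ * z₂ - u₂ * z₁) * x 3) * u₃,
      x 4 - (u₁ * x 4 + u₂ * x 5 + u₃ * x 6) * (u₂ * z₃ - u₃ * z₂),
      x 5 - (u₁ * x 4 + u₂ * x 5 + u₃ * x 6) * (u₃ * z₁ - u₁ * z₃),
      x 6 - (u₁ * x 4 + u₂ * x 5 + u₃ * x 6) * (u₁ * z₂ - u₂ * z₁),
      x 7]
  map_add' x y := by funext i; fin_cases i <;> simp <;> ring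
  map_smul' c x := by funext i; fin_cases i <;> simp <;> ring

/-- The transvection as an automorphism. -/
def trans (u₁ u₂ u₃ z₁ z₂ z₃ : F) : ↥(Lie.G2 F) :=
  mk (transMap u₁ u₂ u₃ z₁ z₂ z₃) (transMap u₁ u₂ u₃ (-z₁) (-z₂) (-z₃))
    (fun x => by funext i; fin_cases i <;> simp [transMap] <;> ring)
    (fun x y => by funext i; fin_cases i <;> simp [transMap, zornMul, dot3, cross3] <;> ring)

/-- The orbit relation. -/
def Orb (x y : O) : Prop := ∃ g : ↥(Lie.G2 F), mat g *ᵥ x = y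

theorem Orb.step {x x' y : O} (g : ↥(Lie.G2 F)) (h : mat g *ᵥ x = x') (h' : Orb x' y) : Orb x y := by
  obtain ⟨k, hk⟩ := h'
  exact ⟨k * g, by rw [mat_mul, ← mulVec_mulVec, h, hk]⟩

theorem Orb.refl (x : O) : Orb x x := ⟨1, one_mulVec x⟩

variable [CharP F 2]

/-- Idempotents of trace one are conjugate to `E` or `E + 1`. -/
theorem orb_idem (e : O) (ht : e 0 + e 7 = 1) (hn : nrm e = 0) :
    Orb e ![1, 0, 0, 0, 0, 0, 0, 0] ∨ Orb e ![0, 0, 0, 0, 0, 0, 0, 1] := by
  have h2 : (2 : F) = 0 := CharTwo.two_eq_zero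
  -- first coordinate one
  have key : ∀ x : O, x 0 + x 7 = 1 → nrm x = 0 → (x 4 ≠ 0 ∨ x 5 ≠ 0 ∨ x 6 ≠ 0) →
      Orb x ![0, 0, 0, 0, 0, 0, 0, 1] := by
    intro x ht hn hw
    obtain ⟨a₁, a₂, a₃, ha⟩ : ∃ a₁ a₂ a₃ : F, a₁ * x 4 + a₂ * x 5 + a₃ * x 6 = x 0 - 1 := by
      rcases hw with h | h | h
      · exact ⟨(x 0 - 1) / x 4, 0, 0, by simp [h]⟩
      · exact ⟨0, (x 0 - 1) / x 5, 0, by simp [h]⟩
      · exact ⟨0, 0, (x 0 - 1) / x 6, by simp [h]⟩
    obtain ⟨y, hy⟩ : ∃ y, y = mat (phi a₁ a₂ a₃) *ᵥ x := ⟨_, rfl⟩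
    have hny : nrm y = 0 := by rw [hy, map_nrm, hn]
    have hy0 : y 0 = 1 := by
      rw [hy, phi, mk_mulVec]
      show x 0 - (a₁ * x 4 + a₂ * x 5 + a₃ * x 6) = 1
      rw [ha]; ring
    have hy7 : y 7 = 0 := by
      rw [hy, phi, mk_mulVec]
      show x 7 + (a₁ * x 4 + a₂ * x 5 + a₃ * x 6) = 0
      rw [ha]; linear_combination ht
    refine Orb.step _ hy.symm ?_
    have hd : y 1 * y 4 + y 2 * y 5 + y 3 * y 6 = 0 := by
      simp only [nrm, hy0, hy7] at hny
      linear_combination -hny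
    refine Orb.step (phi (-y 1) (-y 2) (-y 3)) (x' := ![1, 0, 0, 0, y 4, y 5, y 6, 0]) ?_ ?_
    · rw [phi, mk_mulVec]
      funext i
      fin_cases i <;> simp [phiMap, hy0, hy7]
      all_goals first
        | ring1
        | linear_combination hd
        | linear_combination -hd
        | linear_combination (y 1) * hd
        | linear_combination (-y 1) * hd
        | linear_combination (y 2) * hd
        | linear_combination (-y 2) * hd
        | linear_combination (y 3) * hd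
        | linear_combination (-y 3) * hd
    refine Orb.step swap (x' := ![0, -y 4, -y 5, -y 6, 0, 0, 0, 1]) ?_ ?_
    · rw [swap, mk_mulVec]
      funext i
      fin_cases i <;> simp [swapMap]
    refine Orb.step (phi (-y 4) (-y 5) (-y 6)) ?_ (Orb.refl _)
    rw [phi, mk_mulVec]
    funext i
    fin_cases i <;> simp [phiMap] <;> ring
  by_cases hw : e 4 ≠ 0 ∨ e 5 ≠ 0 ∨ e 6 ≠ 0
  · exact Or.inr (key e ht hn hw)
  push Not at hw
  obtain ⟨h4, h5, h6⟩ := hw
  by_cases hv : e 1 ≠ 0 ∨ e 2 ≠ 0 ∨ e 3 ≠ 0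
  · refine Or.inr (Orb.step swap rfl (key _ ?_ (by rw [map_nrm, hn]) ?_))
    · rw [swap, mk_mulVec]
      show e 7 + e 0 = 1
      rw [add_comm]; exact ht
    · rw [swap, mk_mulVec]
      show -e 1 ≠ 0 ∨ -e 2 ≠ 0 ∨ -e 3 ≠ 0
      simpa using hv
  push Not at hv
  obtain ⟨h1, h3, h3'⟩ := hv
  simp only [nrm, h1, h3, h3', h4, h5, h6, mul_zero, add_zero, sub_zero] at hn
  rcases mul_eq_zero.1 hn with h | h
  · refine Or.inr (Orb.step 1 ?_ (Orb.refl _))
    rw [show mat (1 : ↥(Lie.G2 F)) = 1 from rfl, one_mulVec]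
    funext i
    fin_cases i <;> simp_all
  · refine Or.inl (Orb.step 1 ?_ (Orb.refl _))
    rw [show mat (1 : ↥(Lie.G2 F)) = 1 from rfl, one_mulVec]
    funext i
    fin_cases i <;> simp_all

/-- Trace-one elements of norm `s` outside the values `z² + z` form one orbit. -/
theorem orb_field (e : O) {s : F} (ht : e 0 + e 7 = 1) (hn : nrm e = s)
    (hs : ∀ z : F, z * z + z ≠ s) : Orb e ![0, s, 0, 0, 1, 0, 0, 1] := by
  have h2 : (2 : F) = 0 := CharTwo.two_eq_zero
  have hs0 : s ≠ 0 := fun h => hs 0 (by rw [h]; ring)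
  have hw : e 4 ≠ 0 ∨ e 5 ≠ 0 ∨ e 6 ≠ 0 := by
    by_contra h
    push Not at h
    obtain ⟨h4, h5, h6⟩ := h
    simp only [nrm, h4, h5, h6] at hn
    exact hs (e 0) (by linear_combination hn + (e 0) * h2 - (e 0) * ht + (e 0 * e 0) * h2 - (e 0) * h2)
  obtain ⟨a₁, a₂, a₃, ha⟩ : ∃ a₁ a₂ a₃ : F, a₁ * e 4 + a₂ * e 5 + a₃ * e 6 = e 0 := by
    rcases hw with h | h | h
    · exact ⟨e 0 / e 4, 0, 0, by simp [h]⟩
    · exact ⟨0, e 0 / e 5, 0, by simp [h]⟩
    · exact ⟨0, 0, e 0 / e 6, by simp [h]⟩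
  obtain ⟨y, hy⟩ : ∃ y, y = mat (phi a₁ a₂ a₃) *ᵥ e := ⟨_, rfl⟩
  have hny : nrm y = s := by rw [hy, map_nrm, hn]
  have hy0 : y 0 = 0 := by
    rw [hy, phi, mk_mulVec]
    show e 0 - (a₁ * e 4 + a₂ * e 5 + a₃ * e 6) = 0
    rw [ha]; ring
  have hy7 : y 7 = 1 := by
    rw [hy, phi, mk_mulVec]
    show e 7 + (a₁ * e 4 + a₂ * e 5 + a₃ * e 6) = 1
    rw [ha]; linear_combination ht
  refine Orb.step _ hy.symm ?_
  have hd : y 1 * y 4 + y 2 * y 5 + y 3 * y 6 = s := by
    simp only [nrm, hy0, hy7] at hny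
    linear_combination -hny - s * h2
  -- changing `w` by a prescribed vector orthogonal to `v`
  have move : ∀ v₁ v₂ v₃ w₁ w₂ w₃ d₁ d₂ d₃ : F, v₁ * w₁ + v₂ * w₂ + v₃ * w₃ = s →
      v₁ * d₁ + v₂ * d₂ + v₃ * d₃ = 0 → ∃ v₁' v₂' v₃' : F,
        v₁' * (w₁ + d₁) + v₂' * (w₂ + d₂) + v₃' * (w₃ + d₃) = s ∧
        ∀ t, Orb ![0, v₁', v₂', v₃', w₁ + d₁, w₂ + d₂, w₃ + d₃, 1] t →
          Orb ![0, v₁, v₂, v₃, w₁, w₂, w₃, 1] t := by
    intro v₁ v₂ v₃ w₁ w₂ w₃ d₁ d₂ d₃ hvw hvd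
    refine ⟨v₁ - (w₂ * d₃ - w₃ * d₂) / s, v₂ - (w₃ * d₁ - w₁ * d₃) / s, v₃ - (w₁ * d₂ - w₂ * d₁) / s, ?_,
      fun t ht => Orb.step (phi ((w₂ * d₃ - w₃ * d₂) / s) ((w₃ * d₁ - w₁ * d₃) / s) ((w₁ * d₂ - w₂ * d₁) / s)) ?_ ht⟩
    · field_simp
      linear_combination s * hvw + s * hvd
    · rw [phi, mk_mulVec]
      funext i
      fin_cases i <;> simp [phiMap] <;> field_simp
      · ring
      · linear_combination 0
      · linear_combination 0
      · linear_combination 0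
      · linear_combination d₁ * hvw - w₁ * hvd
      · linear_combination d₂ * hvw - w₂ * hvd
      · linear_combination d₃ * hvw - w₃ * hvd
      · ring
  -- the last two steps
  have fin : ∀ v₁ v₂ v₃ w₁ w₂ w₃ : F, v₁ = s → v₁ * w₁ + v₂ * w₂ + v₃ * w₃ = s →
      Orb ![0, v₁, v₂, v₃, w₁, w₂, w₃, 1] ![0, s, 0, 0, 1, 0, 0, 1] := by
    rintro v₁ v₂ v₃ w₁ w₂ w₃ rfl hvw
    obtain ⟨u₁, u₂, u₃, hu, hstep⟩ := move v₁ v₂ v₃ w₁ w₂ w₃ (1 - w₁) (0 - w₂) (0 - w₃) hvw
      (by linear_combination -hvw)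
    refine hstep _ ?_
    simp only [add_sub_cancel] at hu ⊢
    have hu1 : u₁ = v₁ := by linear_combination hu
    subst hu1
    obtain ⟨z₁, z₂, z₃, hz⟩ : ∃ z₁ z₂ z₃ : F,
        (u₂ = 0 ∧ u₃ = 0) ∨ (u₂ * z₃ - u₃ * z₂) * u₁ + (u₃ * z₁ - 0 * z₃) * u₂ + (0 * z₂ - u₂ * z₁) * u₃ = -1 := by
      by_cases h : u₂ = 0
      · by_cases h' : u₃ = 0
        · exact ⟨0, 0, 0, Or.inl ⟨h, h'⟩⟩
        · exact ⟨0, 1 / (u₃ * u₁), 0, Or.inr (by subst h; field_simp; ring)⟩
      · exact ⟨0, 0, -1 / (u₂ * u₁), Or.inr (by field_simp; ring)⟩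
    rcases hz with ⟨h, h'⟩ | hz
    · subst h; subst h'
      exact Orb.refl _
    refine Orb.step (trans 0 u₂ u₃ z₁ z₂ z₃) ?_ (Orb.refl _)
    rw [trans, mk_mulVec]
    funext i
    fin_cases i <;> simp [transMap]
    · linear_combination u₂ * hz
    · linear_combination u₃ * hz
  obtain ⟨y', hy'⟩ : ∃ y' : O, y' = ![0, y 1, y 2, y 3, y 4, y 5, y 6, 1] := ⟨_, rfl⟩
  have hyy : y = y' := by
    rw [hy']; funext i; fin_cases i <;> simp [hy0, hy7]
  rw [hyy, hy']
  -- make `w` not proportional to the first unit vector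
  obtain ⟨d₁, d₂, d₃, hdv, hne⟩ : ∃ d₁ d₂ d₃ : F, y 1 * d₁ + y 2 * d₂ + y 3 * d₃ = 0 ∧
      (y 5 + d₂ ≠ 0 ∨ y 6 + d₃ ≠ 0) := by
    by_cases h : y 5 ≠ 0 ∨ y 6 ≠ 0
    · exact ⟨0, 0, 0, by ring, by simpa using h⟩
    push Not at h
    obtain ⟨h5, h6⟩ := h
    by_cases h2' : y 2 = 0
    · exact ⟨0, 1, 0, by rw [h2']; ring, Or.inl (by rw [h5]; simp)⟩
    · refine ⟨y 2, -y 1, 0, by ring, Or.inl ?_⟩
      rw [h5, zero_add, neg_ne_zero]
      rintro h1
      exact hs0 (by rw [← hd, h1, h5, h6]; ring)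
  obtain ⟨v₁, v₂, v₃, hvw, hstep⟩ := move _ _ _ _ _ _ d₁ d₂ d₃ hd hdv
  refine hstep _ ?_
  generalize y 4 + d₁ = w₁ at hvw ⊢
  generalize y 5 + d₂ = w₂ at hvw hne ⊢
  generalize y 6 + d₃ = w₃ at hvw hne ⊢
  obtain ⟨b₂, b₃, hb⟩ : ∃ b₂ b₃ : F, (v₁ - s) * w₁ + b₂ * w₂ + b₃ * w₃ = 0 := by
    rcases hne with h | h
    · exact ⟨-((v₁ - s) * w₁) / w₂, 0, by field_simp; ring⟩
    · exact ⟨0, -((v₁ - s) * w₁) / w₃, by field_simp; ring⟩
  refine Orb.step (phi (v₁ - s) b₂ b₃) (x' := ![0, s, v₂ - b₂, v₃ - b₃, w₁ + (b₂ * v₃ - b₃ * v₂),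
    w₂ + (b₃ * v₁ - (v₁ - s) * v₃), w₃ + ((v₁ - s) * v₂ - b₂ * v₁), 1]) ?_ (fin _ _ _ _ _ _ rfl ?_)
  · rw [phi, mk_mulVec]
    funext i
    fin_cases i <;> simp [phiMap, hb]
    all_goals ring
  · linear_combination hvw - hb

/-- Some trace-one element is moved at most to `e + 1`. -/
theorem exists_flag (g : ↥(Lie.G2 F)) :
    ∃ e : O, e 0 + e 7 = 1 ∧ (mat g *ᵥ e = e ∨ mat g *ᵥ e = e + one) := by
  classical
  have h2 : (2 : F) = 0 := CharTwo.two_eq_zero
  -- a trace-one element moved only by a scalar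
  let trF : O →ₗ[F] F := (LinearMap.proj (R := F) (φ := fun _ : Fin 8 => F) 0) + LinearMap.proj 7
  let S : Submodule F O := F ∙ one
  let L : O →ₗ[F] O ⧸ S := S.mkQ ∘ₗ (Matrix.toLin' (mat g) - LinearMap.id)
  obtain ⟨e, he, het⟩ : ∃ e, L e = 0 ∧ trF e ≠ 0 := by
    by_contra h
    push Not at h
    have hmem : trF ∈ LinearMap.range L.dualMap := by
      rw [LinearMap.range_dualMap_eq_dualAnnihilator_ker, Submodule.mem_dualAnnihilator]
      exact fun x hx => h x hx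
    obtain ⟨φ, hφ⟩ := hmem
    set f : O →ₗ[F] F := φ ∘ₗ S.mkQ with hf
    have hf1 : f one = 0 := by
      rw [hf, LinearMap.comp_apply, (Submodule.mkQ_apply S one).trans
        ((Submodule.Quotient.mk_eq_zero S).2 (Submodule.mem_span_singleton_self _)), map_zero]
    have hfd : ∀ x, x 0 + x 7 = f (mat g *ᵥ x) - f x := fun x => by
      have h1 : trF x = φ (L x) := (congrArg (fun l : O →ₗ[F] F => l x) hφ).symm
      simp only [trF, L, LinearMap.add_apply, LinearMap.proj_apply, LinearMap.comp_apply,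
        LinearMap.sub_apply, toLin'_apply, LinearMap.id_apply] at h1
      rw [h1, ← map_sub]; rfl
    -- represent `f` by the polar form
    set u : O := ![f (Pi.single 7 1), -f (Pi.single 4 1), -f (Pi.single 5 1), -f (Pi.single 6 1),
      -f (Pi.single 1 1), -f (Pi.single 2 1), -f (Pi.single 3 1), f (Pi.single 0 1)] with hu
    have hfu : ∀ x, f x = pol u x := fun x => by
      conv_lhs => rw [pi_eq_sum_univ' x]
      simp [pol, hu, Fin.sum_univ_eight]
      ring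
    set v := mat g⁻¹ *ᵥ u
    have hv : ∀ x, pol u (mat g *ᵥ x) = pol v x := fun x => by
      have h1 := nrm_add v x
      have h3 := nrm_add u (mat g *ᵥ x)
      have h4 : mat g *ᵥ (v + x) = u + mat g *ᵥ x := by rw [mulVec_add, mat_mulVec_inv]
      rw [← h4, map_nrm, map_nrm] at h3
      have h5 : nrm u = nrm v := by rw [show nrm v = nrm u from map_nrm _ _]
      linear_combination h1 - h3 + h5 * (-1 : F) + (0 : F) * h2
    have hvu : v = u + one := by
      have key : ∀ x, pol v x - pol u x = x 0 + x 7 := fun x => by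
        rw [← hv, ← hfu, ← hfu]; exact (hfd x).symm
      funext i
      fin_cases i
      · have := key (Pi.single 7 1); simp [pol, one] at this ⊢; linear_combination this
      · have := key (Pi.single 4 1); simp [pol, one] at this ⊢; linear_combination -this
      · have := key (Pi.single 5 1); simp [pol, one] at this ⊢; linear_combination -this
      · have := key (Pi.single 6 1); simp [pol, one] at this ⊢; linear_combination -this
      · have := key (Pi.single 1 1); simp [pol, one] at this ⊢; linear_combination -this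
      · have := key (Pi.single 2 1); simp [pol, one] at this ⊢; linear_combination -this
      · have := key (Pi.single 3 1); simp [pol, one] at this ⊢; linear_combination -this
      · have := key (Pi.single 0 1); simp [pol, one] at this ⊢; linear_combination this
    have hn : nrm v = nrm u := map_nrm _ _
    rw [hvu, ← one_smul F (one : O), nrm_add_one, ← pol_one u, ← hfu, hf1] at hn
    exact one_ne_zero (by linear_combination hn : (1 : F) = 0)
  obtain ⟨c, hc⟩ : ∃ c : F, c • (one : O) = mat g *ᵥ e - e := by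
    simp only [L, LinearMap.comp_apply, Submodule.mkQ_apply, Submodule.Quotient.mk_eq_zero, S,
      Submodule.mem_span_singleton, LinearMap.sub_apply, toLin'_apply, LinearMap.id_apply] at he
    exact he
  -- normalise the trace
  have ht : (e 0 + e 7) ≠ 0 := het
  obtain ⟨e₁, he₁⟩ : ∃ e₁, e₁ = (e 0 + e 7)⁻¹ • e := ⟨_, rfl⟩
  have ht1 : e₁ 0 + e₁ 7 = 1 := by
    rw [he₁]; simp only [Pi.smul_apply, smul_eq_mul, ← mul_add]; exact inv_mul_cancel₀ ht
  have hg1 : mat g *ᵥ e₁ = e₁ + ((e 0 + e 7)⁻¹ * c) • one := by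
    rw [he₁, mulVec_smul, mul_smul, hc, smul_sub, add_sub_cancel]
  generalize (e 0 + e 7)⁻¹ * c = c₁ at hg1
  have hc1 : c₁ = 0 ∨ c₁ = 1 := by
    have hn := map_nrm g e₁
    rw [hg1, nrm_add_one, ht1] at hn
    rcases mul_eq_zero.1 (show c₁ * (c₁ + 1) = 0 by linear_combination hn) with h | h
    · exact Or.inl h
    · exact Or.inr (CharTwo.add_eq_zero.1 h)
  rcases hc1 with h | h
  · exact ⟨e₁, ht1, Or.inl (by rw [hg1, h, zero_smul, add_zero])⟩
  · exact ⟨e₁, ht1, Or.inr (by rw [hg1, h, one_smul])⟩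

/-- `G₂(q)` for even `q` is covered by two classes. -/
theorem twoCover_G2 [Finite F] : TwoCover ↥(Lie.G2 F) := by
  classical
  have h2 : (2 : F) = 0 := CharTwo.two_eq_zero
  let ψ : F →+ F := AddMonoidHom.mk' (fun z => z * z + z) fun a b => by linear_combination (a * b) * h2
  have hψ0 : ψ 0 = ψ 1 := by show (0 : F) * 0 + 0 = 1 * 1 + 1; linear_combination -h2
  obtain ⟨s, hs⟩ : ∃ s, s ∉ ψ.range := by
    by_contra h
    push Not at h
    exact zero_ne_one (Finite.injective_iff_surjective.2 (fun x => h x) hψ0)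
  have hker : Nat.card ψ.ker = 2 := by
    have he : (ψ.ker : Set F) = {0, 1} := ?_
    · rw [← SetLike.coe_sort_coe, he, Nat.card_coe_set_eq, Set.ncard_pair zero_ne_one]
    ext z
    simp only [SetLike.mem_coe, AddMonoidHom.mem_ker, AddMonoidHom.mk'_apply, ψ, Set.mem_insert_iff,
      Set.mem_singleton_iff]
    constructor
    · intro h
      rcases mul_eq_zero.1 (show z * (z + 1) = 0 by rw [← h]; ring) with h | h
      · exact Or.inl h
      · exact Or.inr (CharTwo.add_eq_zero.1 h)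
    · rintro (rfl | rfl)
      · simp
      · linear_combination h2
  have hidx : ψ.range.index = 2 := by
    have h1 := ψ.range.index_mul_card
    have h3 := ψ.ker.index_mul_card
    rw [AddSubgroup.index_ker, hker] at h3
    have : 0 < Nat.card ψ.range := Nat.card_pos
    nlinarith
  let H : O → Subgroup ↥(Lie.G2 F) := fun E =>
    { carrier := {g | mat g *ᵥ E = E ∨ mat g *ᵥ E = E + one}
      one_mem' := Or.inl (one_mulVec E)
      mul_mem' := by
        intro g h hg hh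
        simp only [Set.mem_setOf_eq, mat_mul, ← mulVec_mulVec] at hg hh ⊢
        rcases hh with hh | hh <;> rw [hh]
        · exact hg
        · rw [mulVec_add, map_one']
          rcases hg with hg | hg <;> rw [hg]
          · exact Or.inr rfl
          · refine Or.inl ?_
            funext i
            simp [add_assoc, CharTwo.add_self_eq_zero]
      inv_mem' := by
        intro g hg
        simp only [Set.mem_setOf_eq] at hg ⊢
        rcases hg with hg | hg
        · exact Or.inl (by conv_lhs => rw [← hg]; exact mat_inv_mulVec g E)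
        · refine Or.inr ?_
          have h := congrArg (mat g⁻¹ *ᵥ ·) hg
          simp only [mat_inv_mulVec, mulVec_add, map_one'] at h
          funext i
          have hi := congrFun h i
          simp only [Pi.add_apply] at hi ⊢
          rw [hi, add_assoc, CharTwo.add_self_eq_zero, add_zero] }
  refine ⟨H ![1, 0, 0, 0, 0, 0, 0, 0], H ![0, s, 0, 0, 1, 0, 0, 1], fun h => ?_, fun h => ?_, fun g => ?_⟩
  · have hm : phi (1 : F) 0 0 ∈ H ![1, 0, 0, 0, 0, 0, 0, 0] := by rw [h]; trivial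
    rcases hm with hm | hm <;> rw [phi, mk_mulVec] at hm <;>
      exact (by simpa [phiMap, one] using congrFun hm 1)
  · have hm : phi (0 : F) 1 0 ∈ H ![0, s, 0, 0, 1, 0, 0, 1] := by rw [h]; trivial
    rcases hm with hm | hm <;> rw [phi, mk_mulVec] at hm <;>
      exact (by simpa [phiMap, one] using congrFun hm 2)
  obtain ⟨e₁, ht1, hflag⟩ := exists_flag g
  obtain ⟨c₁, hc1, hg1⟩ : ∃ c₁ : F, (c₁ = 0 ∨ c₁ = 1) ∧ mat g *ᵥ e₁ = e₁ + c₁ • one := by
    rcases hflag with h | h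
    · exact ⟨0, Or.inl rfl, by rw [h, zero_smul, add_zero]⟩
    · exact ⟨1, Or.inr rfl, by rw [h, one_smul]⟩
  obtain ⟨z, hz⟩ : ∃ z, nrm (e₁ + z • one) = 0 ∨ nrm (e₁ + z • one) = s := by
    by_cases h : nrm e₁ ∈ ψ.range
    · obtain ⟨z, hz⟩ := h
      refine ⟨z, Or.inl ?_⟩
      rw [nrm_add_one, ht1, ← hz, show ψ z = z * z + z from rfl]
      linear_combination (z * z + z) * h2
    · obtain ⟨z, hz⟩ := (AddSubgroup.add_mem_iff_of_index_two hidx).2 (iff_of_false h hs)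
      refine ⟨z, Or.inr ?_⟩
      have hz' : z * z + z = nrm e₁ + s := hz
      rw [nrm_add_one, ht1]
      linear_combination hz' + nrm e₁ * h2
  set e₂ := e₁ + z • one with he₂
  have ht2 : e₂ 0 + e₂ 7 = 1 := by
    simp only [he₂, one, Pi.add_apply, Pi.smul_apply, smul_eq_mul, Matrix.cons_val_zero]
    simp
    linear_combination ht1 + z * h2
  have hg2 : mat g *ᵥ e₂ = e₂ + c₁ • one := by
    rw [he₂, mulVec_add, mulVec_smul, map_one', hg1]; abel
  have hfix : ∀ (x : ↥(Lie.G2 F)) (E : O), mat x *ᵥ e₂ = E → x * g * x⁻¹ ∈ H E := by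
    intro x E hx
    have : mat (x * g * x⁻¹) *ᵥ E = E + c₁ • one := by
      rw [mat_mul, mat_mul, ← mulVec_mulVec, ← mulVec_mulVec, ← hx, mat_inv_mulVec, hg2, mulVec_add,
        mulVec_smul, map_one']
    rcases hc1 with h | h
    · exact Or.inl (by rw [this, h, zero_smul, add_zero])
    · exact Or.inr (by rw [this, h, one_smul])
  rcases hz with hz | hz
  · rcases orb_idem e₂ ht2 hz with ⟨x, hx⟩ | ⟨x, hx⟩
    · exact ⟨x, Or.inl (hfix x _ hx)⟩
    · refine ⟨x, Or.inl ?_⟩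
      have hset : ∀ E E' : O, E' = E + one → ∀ y, y ∈ H E' → y ∈ H E := by
        rintro E _ rfl y (hy | hy) <;> rw [mulVec_add, map_one'] at hy
        · exact Or.inl (add_right_cancel hy)
        · exact Or.inr (add_right_cancel hy)
      refine hset _ _ ?_ _ (hfix x _ hx)
      funext i
      fin_cases i <;> simp [one, CharTwo.add_self_eq_zero]
  · obtain ⟨x, hx⟩ := orb_field e₂ ht2 hz fun z h => hs ⟨z, h⟩
    exact ⟨x, Or.inr (hfix x _ hx)⟩

end Cfsg.Agent.H62.Covering.G2
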